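import Groth.Agent.DimFormula.Trdeg
import Mathlib.RingTheory.AlgebraicIndependent.Transcendental

/-!
# Fibre dimensions of `S/q` in towers
-/

set_option autoImplicit false
set_option linter.style.haveILetI false

open TensorProduct Order

namespace Groth.Agent.FibShift

universe u

open DimFormula

section Tower

variable (A : Type u) (A' : Type u) {B : Type u} [CommRing A] [CommRing A'] [CommRing B]
  [Algebra A A'] [Algebra A B] [Algebra A' B] [IsScalarTower A A' B]
  [Algebra.FiniteType A A'] [Algebra.FiniteType A B] [Algebra.FiniteType A' B]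

theorem fd_tower (P : Ideal B) [P.IsPrime] : fd A P = fd A (P.under A') + fd A' P := by
  haveI : (P.under A').LiesOver (P.under A) := ⟨(Ideal.under_under (A := A) (B := A') P).symm⟩
  haveI : IsScalarTower (A ⧸ P.under A) (A' ⧸ P.under A') (B ⧸ P) :=
    IsScalarTower.of_algebraMap_eq fun x => by
      obtain ⟨a, rfl⟩ := Ideal.Quotient.mk_surjective x
      exact congrArg (Ideal.Quotient.mk P) (IsScalarTower.algebraMap_apply A A' B a)
  haveI : FaithfulSMul (A' ⧸ P.under A') (B ⧸ P) :=
    (faithfulSMul_iff_algebraMap_injective _ _).2 (Ideal.algebraMap_quotient_injective)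
  haveI : FaithfulSMul (A ⧸ P.under A) (A' ⧸ P.under A') :=
    (faithfulSMul_iff_algebraMap_injective _ _).2 ((injective_iff_map_eq_zero _).2 fun x hx => by
      obtain ⟨a, rfl⟩ := Ideal.Quotient.mk_surjective x
      rw [Ideal.Quotient.eq_zero_iff_mem, ← Ideal.under_under (A := A) (B := A') P]
      exact (Ideal.Quotient.eq_zero_iff_mem.1 hx : algebraMap A A' a ∈ P.under A'))
  have h1 := fd_eq_trdeg A (P.under A) (Ideal.Quotient.mkₐ A P) Ideal.Quotient.mk_surjective P Ideal.mk_ker rfl
  have h2 := fd_eq_trdeg A (P.under A) (Ideal.Quotient.mkₐ A (P.under A')) Ideal.Quotient.mk_surjective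
    (P.under A') Ideal.mk_ker (Ideal.under_under P)
  have h3 := fd_eq_trdeg A' (P.under A') (Ideal.Quotient.mkₐ A' P) Ideal.Quotient.mk_surjective P Ideal.mk_ker rfl
  have h4 := trdeg_add_eq (A ⧸ P.under A) (A' ⧸ P.under A') (A := B ⧸ P)
  rw [← h1, ← h2, ← h3, ← Nat.cast_add] at h4
  exact_mod_cast h4.symm

end Tower

section Bounds

variable {A B : Type u} [CommRing A] [CommRing B] [Algebra A B] [Algebra.FiniteType A B]

theorem fd_le_of_quasiFinite (m : ℕ) [Algebra (MvPolynomial (Fin m) A) B]
    [IsScalarTower A (MvPolynomial (Fin m) A) B] [Algebra.QuasiFinite (MvPolynomial (Fin m) A) B]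
    (P : Ideal B) [P.IsPrime] : fd A P ≤ m := by
  have h1 : ringKrullDim ((P.under A).Fiber (B ⧸ P)) ≤ ringKrullDim ((P.under A).Fiber B) :=
    ringKrullDim_le_of_surjective
      (Algebra.TensorProduct.map (AlgHom.id A (P.under A).ResidueField) (Ideal.Quotient.mkₐ A P)).toRingHom
      (by
        show Function.Surjective
          (TensorProduct.map (LinearMap.id (R := A) (M := (P.under A).ResidueField)) (Ideal.Quotient.mkₐ A P).toLinearMap)
        exact TensorProduct.map_surjective Function.surjective_id Ideal.Quotient.mk_surjective)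
  have h2 := h1.trans (FibDim.ringKrullDim_fiber_le_of_quasiFinite (A := A) m ⟨P.under A, inferInstance⟩)
  rw [coe_fd] at h2
  exact_mod_cast h2

/-- Independence modulo a prime survives localization. -/
theorem fd_le_fd_of_comap {B' : Type u} [CommRing B'] [Algebra A B'] [Algebra.FiniteType A B']
    (f : B →ₐ[A] B') (P' : Ideal B') [P'.IsPrime] : fd A (P'.comap f.toRingHom) ≤ fd A P' := by
  obtain ⟨t, ht⟩ := (le_fd_iff A (P'.comap f.toRingHom) _).1 le_rfl
  refine (le_fd_iff A P' _).2 ⟨fun i => f (t i), fun G hG => ?_⟩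
  have h1 := ht G (by
    show f (MvPolynomial.aeval t G) ∈ P'
    rwa [MvPolynomial.comp_aeval_apply])
  convert h1 using 2
  ext a
  simp [Ideal.mem_comap]

/-- A fibre has dimension at most `n` if all its points have relative degree at most `n`. -/
theorem dim_fiber_le_of_fd_le (p : PrimeSpectrum A) (n : ℕ)
    (h : ∀ (q : Ideal B) [q.IsPrime], q.under A = p.asIdeal → fd A q ≤ n) :
    ringKrullDim (p.asIdeal.Fiber B) ≤ n := by
  rw [← FibDim.krullDim_fib, Order.krullDim]
  refine iSup_le fun c => ?_
  set q := c.head.1 with hq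
  have hqp : PrimeSpectrum.comap (algebraMap A B) q = p := c.head.2
  have hge : ∀ i, q ≤ (c i).1 := fun i => c.monotone (Fin.zero_le i)
  choose R hR using fun i => (show (c i).1 ∈ Set.range (PrimeSpectrum.comap (Ideal.Quotient.mk q.asIdeal)) by
    rw [_root_.range_comap_of_surjective _ _ Ideal.Quotient.mk_surjective, Ideal.mk_ker]
    exact hge i)
  let p₁ : PrimeSpectrum A := ⟨q.asIdeal.under A, inferInstance⟩
  have hRp : ∀ i, R i ∈ FibDim.fib (A := A) (B := B ⧸ q.asIdeal) p₁ := fun i => by
    show PrimeSpectrum.comap (algebraMap A (B ⧸ q.asIdeal)) (R i) = p₁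
    rw [IsScalarTower.algebraMap_eq A B (B ⧸ q.asIdeal), PrimeSpectrum.comap_comp_apply]
    exact ((congrArg _ (hR i)).trans (c i).2).trans hqp.symm
  let c' : LTSeries ↥(FibDim.fib (A := A) (B := B ⧸ q.asIdeal) p₁) :=
    LTSeries.mk c.length (fun i => ⟨R i, hRp i⟩) (fun i j hij => by
      have h1 : (c i).1 < (c j).1 := c.strictMono hij
      rw [← hR, ← hR] at h1
      show R i < R j
      refine lt_of_le_of_ne ((Ideal.comap_le_comap_iff_of_surjective _ Ideal.Quotient.mk_surjective _ _).1 h1.le) ?_
      intro e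
      rw [e] at h1
      exact lt_irrefl _ h1)
  have h2 := LTSeries.length_le_krullDim c'
  rw [FibDim.krullDim_fib, coe_fd] at h2
  exact h2.trans (by exact_mod_cast h q.asIdeal (congrArg PrimeSpectrum.asIdeal hqp))

theorem fd_le_of_dim_fiber_le (n : ℕ) (P : Ideal B) [P.IsPrime]
    (h : ringKrullDim ((P.under A).Fiber B) ≤ n) : fd A P ≤ n := by
  have h1 : ringKrullDim ((P.under A).Fiber (B ⧸ P)) ≤ ringKrullDim ((P.under A).Fiber B) :=
    ringKrullDim_le_of_surjective
      (Algebra.TensorProduct.map (AlgHom.id A (P.under A).ResidueField) (Ideal.Quotient.mkₐ A P)).toRingHom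
      (by
        show Function.Surjective
          (TensorProduct.map (LinearMap.id (R := A) (M := (P.under A).ResidueField)) (Ideal.Quotient.mkₐ A P).toLinearMap)
        exact TensorProduct.map_surjective Function.surjective_id Ideal.Quotient.mk_surjective)
  have h2 := h1.trans h
  rw [coe_fd] at h2
  exact_mod_cast h2

end Bounds

end Groth.Agent.FibShift
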