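import Mathlib.RingTheory.AlgebraicIndependent.Transcendental
import Mathlib.RingTheory.MvPolynomial.Basic
import Mathlib.RingTheory.Algebraic.Integral
import Mathlib.FieldTheory.AlgebraicClosure

/-!
# The substitution `β = γ - α ^ n` keeps a relation nonzero
-/

set_option autoImplicit false

namespace Groth.Agent.FibShift

open Polynomial

/-- `X ^ i * (c - X ^ n) ^ j` has degree `i + n * j` and is monic up to sign. -/
theorem natDegree_subst {K : Type*} [Field K] (c : K) {n : ℕ} (hn : 0 < n) (i j : ℕ) :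
    ((X : K[X]) ^ i * (C c - X ^ n) ^ j).natDegree = i + n * j ∧
      ((X : K[X]) ^ i * (C c - X ^ n) ^ j) ≠ 0 := by
  have h1 : (C c - X ^ n : K[X]).natDegree = n := by
    rw [natDegree_sub_eq_right_of_natDegree_lt (by simpa using hn), natDegree_X_pow]
  have h2 : (C c - X ^ n : K[X]) ≠ 0 := ne_zero_of_natDegree_gt (n := 0) (h1.symm ▸ hn)
  refine ⟨?_, mul_ne_zero (pow_ne_zero _ X_ne_zero) (pow_ne_zero _ h2)⟩
  rw [natDegree_mul (pow_ne_zero _ X_ne_zero) (pow_ne_zero _ h2), natDegree_X_pow, natDegree_pow, h1,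
    mul_comm]

theorem subst_ne_zero {k K : Type*} [Field k] [Field K] [Algebra k K] (c : K)
    (G : MvPolynomial (Fin 2) k) (hG : G ≠ 0) {n : ℕ} (hn : G.totalDegree < n) :
    MvPolynomial.aeval ![(X : K[X]), C c - X ^ n] G ≠ 0 := by
  classical
  have hn0 : 0 < n := lt_of_le_of_lt (Nat.zero_le _) hn
  let w : (Fin 2 →₀ ℕ) → ℕ := fun e => e 0 + n * e 1
  obtain ⟨e₀, he₀, hmax⟩ := Finset.exists_max_image G.support w (MvPolynomial.support_nonempty.2 hG)
  have hlt : ∀ e ∈ G.support, e 0 < n := fun e he => by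
    refine lt_of_le_of_lt ?_ hn
    refine le_trans ?_ (MvPolynomial.le_totalDegree he)
    rw [Finsupp.sum_fintype _ _ (fun _ => rfl), Fin.sum_univ_two]
    exact Nat.le_add_right _ _
  have hinj : ∀ e ∈ G.support, w e = w e₀ → e = e₀ := fun e he hw => by
    have h0 : e 0 = e₀ 0 := by
      have := congrArg (· % n) hw
      simpa [w, Nat.add_mul_mod_self_left, Nat.mod_eq_of_lt (hlt e he), Nat.mod_eq_of_lt (hlt e₀ he₀)] using this
    ext i
    fin_cases i
    · exact h0
    · have hw' : e 0 + n * e 1 = e₀ 0 + n * e₀ 1 := hw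
      rw [h0] at hw'
      exact Nat.eq_of_mul_eq_mul_left hn0 (Nat.add_left_cancel hw')
  intro h0
  have key : ∀ e : Fin 2 →₀ ℕ, MvPolynomial.aeval ![(X : K[X]), C c - X ^ n] (MvPolynomial.monomial e (G.coeff e)) =
      C (algebraMap k K (G.coeff e)) * (X ^ e 0 * (C c - X ^ n) ^ e 1) := fun e => by
    rw [MvPolynomial.aeval_monomial, Finsupp.prod_fintype _ _ (fun _ => pow_zero _), Fin.prod_univ_two]
    rfl
  have h1 := congrArg (fun p : K[X] => p.coeff (w e₀)) h0
  simp only [coeff_zero] at h1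
  rw [G.as_sum, map_sum, finset_sum_coeff, Finset.sum_eq_single e₀ ?_ (fun h => (h he₀).elim), key,
    coeff_C_mul] at h1
  · have hd := (natDegree_subst c hn0 (e₀ 0) (e₀ 1))
    rcases mul_eq_zero.1 h1 with h | h
    · exact (MvPolynomial.mem_support_iff.1 he₀) (by simpa using h)
    · refine hd.2 (leadingCoeff_eq_zero.1 ?_)
      rw [leadingCoeff, hd.1]
      exact h
  · intro e he hne
    rw [key, coeff_C_mul, coeff_eq_zero_of_natDegree_lt, mul_zero]
    rw [(natDegree_subst c hn0 (e 0) (e 1)).1]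
    exact lt_of_le_of_ne (hmax e he) fun h => hne (hinj e he h)

/-- A relation between `α` and `β`, with `α` transcendental, makes `α ^ n + β` transcendental for large `n`. -/
theorem transcendental_shift {k L : Type*} [Field k] [Field L] [Algebra k L] (α β : L)
    (hα : Transcendental k α) (G : MvPolynomial (Fin 2) k) (hG : G ≠ 0)
    (h : MvPolynomial.aeval ![α, β] G = 0) {n : ℕ} (hn : G.totalDegree < n) :
    Transcendental k (α ^ n + β) := by
  intro hγ
  let K := algebraicClosure k L
  let c : K := ⟨α ^ n + β, mem_algebraicClosure_iff.2 hγ⟩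
  have hαK : IsAlgebraic K α := by
    refine ⟨MvPolynomial.aeval ![(X : K[X]), C c - X ^ n] G, subst_ne_zero c G hG hn, ?_⟩
    have h1 := MvPolynomial.comp_aeval_apply (f := ![(X : K[X]), C c - X ^ n])
      ((Polynomial.aeval (R := K) α).restrictScalars k) G
    refine h1.trans ?_
    rw [← h]
    congr 2
    funext i
    fin_cases i <;> simp [c]
  exact hα (hαK.restrictScalars k)

end Groth.Agent.FibShift
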