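import Groth.Agent.FibShift.Shift
import Groth.Agent.DimFormula.Scheme
import Mathlib.RingTheory.RingHom.QuasiFinite

/-!
# Dropping a variable from a quasi-finite presentation (Nagata's substitution, uniformly over the base)
-/

set_option autoImplicit false
set_option linter.style.haveILetI false

open Topology

namespace Groth.Agent.FibShift

open DimFormula

universe u

theorem weight_injOn {n N : ℕ} (e e' : Fin n → ℕ) (he : ∀ i, e i < N) (he' : ∀ i, e' i < N)
    (h : ∑ i, e i * N ^ (i : ℕ) = ∑ i, e' i * N ^ (i : ℕ)) : e = e' := by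
  have h1 : finFunctionFinEquiv (fun i => (⟨e i, he i⟩ : Fin N)) = finFunctionFinEquiv (fun i => (⟨e' i, he' i⟩ : Fin N)) := by
    apply Fin.ext
    rw [finFunctionFinEquiv_apply, finFunctionFinEquiv_apply]
    exact h
  funext i
  exact congrArg Fin.val (congrFun (finFunctionFinEquiv.injective h1) i)

open Polynomial in
/-- A nonzero relation makes `τ 0` algebraic over a field containing all `τ (i+1) - τ 0 ^ N^(i+1)`. -/
theorem isAlgebraic_of_nagata {K L : Type*} [Field K] [Field L] [Algebra K L] {n : ℕ} (τ : Fin (n + 1) → L)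
    (c : Fin n → K) (G : MvPolynomial (Fin (n + 1)) K) (hG : G ≠ 0) (h : MvPolynomial.aeval τ G = 0) {N : ℕ}
    (hN : G.totalDegree < N)
    (hτ : ∀ i : Fin n, τ i.succ = algebraMap K L (c i) + τ 0 ^ (N ^ ((i : ℕ) + 1))) :
    IsAlgebraic K (τ 0) := by
  classical
  have hN0 : 0 < N := lt_of_le_of_lt (Nat.zero_le _) hN
  let g : Fin (n + 1) → K[X] := Fin.cons X (fun i => C (c i) + X ^ (N ^ ((i : ℕ) + 1)))
  have hgd : ∀ j, (g j).natDegree = N ^ (j : ℕ) ∧ g j ≠ 0 := fun j => by
    refine Fin.cases ?_ (fun i => ?_) j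
    · simp [g, X_ne_zero]
    · have hpos : 0 < N ^ ((i : ℕ) + 1) := pow_pos hN0 _
      have h1 : (g i.succ).natDegree = N ^ ((i : ℕ) + 1) := by
        simp only [g, Fin.cons_succ]
        rw [natDegree_add_eq_right_of_natDegree_lt (by simpa using hpos), natDegree_X_pow]
      exact ⟨by rw [h1, Fin.val_succ], ne_zero_of_natDegree_gt (n := 0) (h1.symm ▸ hpos)⟩
  refine ⟨MvPolynomial.aeval g G, ?_, ?_⟩
  · let w : (Fin (n + 1) →₀ ℕ) → ℕ := fun e => ∑ i, e i * N ^ (i : ℕ)
    obtain ⟨e₀, he₀, hmax⟩ := Finset.exists_max_image G.support w (MvPolynomial.support_nonempty.2 hG)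
    have hlt : ∀ e ∈ G.support, ∀ i, e i < N := fun e he i => by
      refine lt_of_le_of_lt ?_ hN
      refine le_trans ?_ (MvPolynomial.le_totalDegree he)
      rw [Finsupp.sum_fintype _ _ (fun _ => rfl)]
      exact Finset.single_le_sum (f := fun j => e j) (fun _ _ => Nat.zero_le _) (Finset.mem_univ i)
    have key : ∀ e : Fin (n + 1) →₀ ℕ, MvPolynomial.aeval g (MvPolynomial.monomial e (G.coeff e)) =
        C (G.coeff e) * ∏ i, g i ^ e i := fun e => by
      rw [MvPolynomial.aeval_monomial, Finsupp.prod_fintype _ _ (fun _ => pow_zero _)]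
      rfl
    have hdeg : ∀ e : Fin (n + 1) →₀ ℕ, (∏ i, g i ^ e i).natDegree = w e := fun e => by
      rw [natDegree_prod _ _ fun i _ => pow_ne_zero _ (hgd i).2]
      exact Finset.sum_congr rfl fun i _ => by rw [natDegree_pow, (hgd i).1]
    intro h0
    have h1 := congrArg (fun p : K[X] => p.coeff (w e₀)) h0
    simp only [coeff_zero] at h1
    rw [G.as_sum, map_sum, finsetSum_coeff, Finset.sum_eq_single e₀ ?_ (fun h => (h he₀).elim), key,
      coeff_C_mul] at h1
    · rcases mul_eq_zero.1 h1 with h | h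
      · exact (MvPolynomial.mem_support_iff.1 he₀) h
      · refine (Finset.prod_ne_zero_iff (s := Finset.univ)).2 (fun i _ => pow_ne_zero (e₀ i) (hgd i).2) (leadingCoeff_eq_zero.1 ?_)
        rw [leadingCoeff, hdeg]
        exact h
    · intro e he hne
      rw [key, coeff_C_mul, coeff_eq_zero_of_natDegree_lt, mul_zero]
      rw [hdeg]
      refine lt_of_le_of_ne (hmax e he) fun hw => hne (DFunLike.coe_injective ?_)
      exact weight_injOn _ _ (hlt e he) (hlt e₀ he₀) hw
  · rw [MvPolynomial.comp_aeval_apply]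
    refine Eq.trans ?_ h
    congr 2
    funext j
    refine Fin.cases ?_ (fun i => ?_) j
    · simp [g]
    · simp [g, hτ]

variable {R S : Type u} [CommRing R] [CommRing S] [Algebra R S]

/-- Relative degree over the polynomial ring `R[t]`. -/
noncomputable def fdt {n : ℕ} (t : Fin n → S) (q : PrimeSpectrum S) : ℕ :=
  letI := (MvPolynomial.aeval (R := R) t).toRingHom.toAlgebra
  fd (MvPolynomial (Fin n) R) q.asIdeal

theorem tower_aevalMv {n : ℕ} (t : Fin n → S) :
    letI := (MvPolynomial.aeval (R := R) t).toRingHom.toAlgebra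
    IsScalarTower R (MvPolynomial (Fin n) R) S :=
  letI := (MvPolynomial.aeval (R := R) t).toRingHom.toAlgebra
  IsScalarTower.of_algebraMap_eq fun r => ((MvPolynomial.aeval (R := R) t).commutes r).symm

variable [Algebra.FiniteType R S]

attribute [local instance] resAlgebra resTower

/-- One variable fewer, near a point. -/
theorem fdt_nagata_eq_zero {n : ℕ} (t : Fin (n + 1) → S) (q : PrimeSpectrum S) (hq : fdt (R := R) t q = 0)
    (G : MvPolynomial (Fin (n + 1)) R) (s : Fin (n + 1) →₀ ℕ) (hGq : MvPolynomial.aeval t G ∈ q.asIdeal)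
    (hs : algebraMap R S (G.coeff s) ∉ q.asIdeal) {N : ℕ} (hN : G.totalDegree < N) :
    fdt (R := R) (fun i : Fin n => t i.succ - t 0 ^ (N ^ ((i : ℕ) + 1))) q = 0 := by
  set t' : Fin n → S := fun i => t i.succ - t 0 ^ (N ^ ((i : ℕ) + 1)) with ht'
  let A := MvPolynomial (Fin n) R
  let T := MvPolynomial (Fin (n + 1)) R
  letI : Algebra A S := (MvPolynomial.aeval (R := R) t').toRingHom.toAlgebra
  haveI : IsScalarTower R A S := tower_aevalMv t'
  haveI : Algebra.FiniteType A S := Algebra.FiniteType.of_restrictScalars_finiteType R _ _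
  show fd A q.asIdeal = 0
  -- over `A`, `t 0` is algebraic
  let L := q.asIdeal.ResidueField
  let K := (q.asIdeal.under A).ResidueField
  letI : Algebra K L := resAlgebra q.asIdeal
  haveI : IsScalarTower A K L := resTower q.asIdeal
  let G' := MvPolynomial.map (algebraMap R K) G
  haveI : IsScalarTower R K L := IsScalarTower.of_algebraMap_eq fun r => by
    rw [IsScalarTower.algebraMap_apply R A K, ← IsScalarTower.algebraMap_apply A K L,
      ← IsScalarTower.algebraMap_apply R A L]
  have hG' : G' ≠ 0 := fun e => hs (by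
    have h1 := congrArg (MvPolynomial.coeff s) e
    rw [MvPolynomial.coeff_map, MvPolynomial.coeff_zero] at h1
    have h2 := congrArg (algebraMap K L) h1
    rw [map_zero, ← IsScalarTower.algebraMap_apply, IsScalarTower.algebraMap_apply R S L] at h2
    exact Ideal.algebraMap_residueField_eq_zero.1 h2)
  have h0 : MvPolynomial.aeval (fun j => algebraMap S L (t j)) G' = 0 := by
    rw [MvPolynomial.aeval_map_algebraMap]
    have h1 := MvPolynomial.comp_aeval_apply (f := t) (IsScalarTower.toAlgHom R S L) G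
    exact h1.symm.trans (Ideal.algebraMap_residueField_eq_zero.2 hGq)
  have halg : IsAlgebraic K (algebraMap S L (t 0)) := by
    refine isAlgebraic_of_nagata (fun j => algebraMap S L (t j)) (fun i => algebraMap A K (MvPolynomial.X i))
      G' hG' h0 (lt_of_le_of_lt (Finset.sup_mono (MvPolynomial.support_map_subset _ _)) hN) fun i => ?_
    show _ = algebraMap K L (algebraMap A K _) + _
    rw [← IsScalarTower.algebraMap_apply, IsScalarTower.algebraMap_apply A S L]
    show algebraMap S L (t i.succ) = algebraMap S L (MvPolynomial.aeval t' (MvPolynomial.X i)) + _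
    rw [MvPolynomial.aeval_X, ← map_pow, ← map_add, ht']
    simp
  rw [← fdc_eq_of_algebraic (R := A) q (t 0) halg]
  -- `A[X]` is a quotient of `R[T]`
  letI : Algebra (Polynomial A) S := (Polynomial.aeval (R := A) (t 0)).toRingHom.toAlgebra
  let φ : T →ₐ[R] Polynomial A := MvPolynomial.aeval
    (Fin.cons Polynomial.X (fun i : Fin n => Polynomial.C (MvPolynomial.X i : A) + Polynomial.X ^ (N ^ ((i : ℕ) + 1))))
  letI : Algebra T S := (MvPolynomial.aeval (R := R) t).toRingHom.toAlgebra
  letI : Algebra T (Polynomial A) := φ.toRingHom.toAlgebra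
  haveI : IsScalarTower R T S := tower_aevalMv t
  haveI : IsScalarTower A (Polynomial A) S := tower_aeval _
  haveI : IsScalarTower R (Polynomial A) S := IsScalarTower.of_algebraMap_eq fun r => by
    rw [IsScalarTower.algebraMap_apply R A (Polynomial A), ← IsScalarTower.algebraMap_apply A (Polynomial A) S,
      ← IsScalarTower.algebraMap_apply R A S]
  haveI : IsScalarTower T (Polynomial A) S := IsScalarTower.of_algebraMap_eq fun f => by
    show MvPolynomial.aeval t f = ((IsScalarTower.toAlgHom R (Polynomial A) S).comp φ) f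
    congr 1
    refine MvPolynomial.algHom_ext fun j => ?_
    refine Fin.cases ?_ (fun i => ?_) j
    · simp only [MvPolynomial.aeval_X, AlgHom.comp_apply, φ, Fin.cons_zero, IsScalarTower.coe_toAlgHom']
      exact (Polynomial.aeval_X _).symm
    · simp only [MvPolynomial.aeval_X, AlgHom.comp_apply, φ, Fin.cons_succ, IsScalarTower.coe_toAlgHom']
      show t i.succ = Polynomial.aeval (t 0) (_ : Polynomial A)
      rw [map_add, Polynomial.aeval_C, map_pow, Polynomial.aeval_X]
      show _ = MvPolynomial.aeval t' (MvPolynomial.X i) + _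
      rw [MvPolynomial.aeval_X, ht']
      simp
  haveI : Algebra.FiniteType T S := Algebra.FiniteType.of_restrictScalars_finiteType R _ _
  haveI : Algebra.FiniteType (Polynomial A) S := Algebra.FiniteType.of_restrictScalars_finiteType R _ _
  have hsurj : Function.Surjective (algebraMap T (Polynomial A)) := by
    show Function.Surjective φ
    have hX : (Polynomial.X : Polynomial A) ∈ φ.range := ⟨MvPolynomial.X 0, (MvPolynomial.aeval_X _ _).trans (Fin.cons_zero _ _)⟩
    have hC : ∀ a : A, Polynomial.C a ∈ φ.range := fun a => by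
      induction a using MvPolynomial.induction_on with
      | C r =>
        rw [show Polynomial.C (MvPolynomial.C r : A) = algebraMap R (Polynomial A) r from rfl]
        exact φ.range.algebraMap_mem r
      | add p p' hp hp' => rw [map_add]; exact add_mem hp hp'
      | mul_X p i hp =>
        rw [map_mul]
        refine mul_mem hp ?_
        have hi : Polynomial.C (MvPolynomial.X i : A) =
            φ (MvPolynomial.X i.succ) - Polynomial.X ^ (N ^ ((i : ℕ) + 1)) := by
          have h1 : φ (MvPolynomial.X i.succ) =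
              Polynomial.C (MvPolynomial.X i : A) + Polynomial.X ^ (N ^ ((i : ℕ) + 1)) :=
            (MvPolynomial.aeval_X _ _).trans (Fin.cons_succ _ _ i)
          rw [h1, add_sub_cancel_right]
        rw [hi]
        exact sub_mem ⟨_, rfl⟩ (pow_mem hX _)
    intro x
    induction x using Polynomial.induction_on' with
    | add p p' hp hp' =>
      obtain ⟨u, rfl⟩ := hp
      obtain ⟨v, rfl⟩ := hp'
      exact ⟨u + v, map_add _ _ _⟩
    | monomial k a =>
      rw [← Polynomial.C_mul_X_pow_eq_monomial]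
      exact mul_mem (hC a) (pow_mem hX k)
  exact (fd_base_quotient (A := T) (A' := Polynomial A) hsurj q.asIdeal).trans hq

theorem exists_fdt_pred {n : ℕ} (t : Fin (n + 1) → S) (hfd : ∀ q : PrimeSpectrum S, fd R q.asIdeal ≤ n)
    (ht : ∀ q, fdt (R := R) t q = 0) : ∃ t' : Fin n → S, ∀ q, fdt (R := R) t' q = 0 := by
  classical
  have hloc : ∀ q₀ : PrimeSpectrum S, ∃ (U : Set (PrimeSpectrum S)) (M : ℕ),
      IsOpen[constructibleTopology (PrimeSpectrum S)] U ∧ q₀ ∈ U ∧
      ∀ N ≥ M, ∀ q ∈ U, fdt (R := R) (fun i : Fin n => t i.succ - t 0 ^ (N ^ ((i : ℕ) + 1))) q = 0 := by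
    intro q₀
    obtain ⟨G, hG, hG'⟩ : ∃ G : MvPolynomial (Fin (n + 1)) R, MvPolynomial.aeval t G ∈ q₀.asIdeal ∧
        G ∉ (q₀.asIdeal.under R).map MvPolynomial.C := by
      by_contra hh
      push Not at hh
      have h1 := (le_fd_iff R q₀.asIdeal (n + 1)).2 ⟨t, hh⟩
      have h2 := hfd q₀
      omega
    rw [MvPolynomial.mem_map_C_iff, not_forall] at hG'
    obtain ⟨s, hs⟩ := hG'
    refine ⟨PrimeSpectrum.zeroLocus {MvPolynomial.aeval t G} ∩
      PrimeSpectrum.basicOpen (algebraMap R S (G.coeff s)), G.totalDegree + 1, ?_,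
      ⟨Set.singleton_subset_iff.2 hG, hs⟩,
      fun N hN q hq => fdt_nagata_eq_zero t q (ht q) G s (Set.singleton_subset_iff.1 hq.1) hq.2 (by omega)⟩
    refine @IsOpen.inter _ (constructibleTopology _) _ _ (IsCompact.isOpen_constructibleTopology_of_isClosed ?_
      (PrimeSpectrum.isClosed_zeroLocus _))
      ((PrimeSpectrum.isCompact_basicOpen _).isOpen_constructibleTopology_of_isOpen (PrimeSpectrum.basicOpen _).isOpen)
    rw [← PrimeSpectrum.basicOpen_eq_zeroLocus_compl]
    exact PrimeSpectrum.isCompact_basicOpen _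
  choose U M hU hmem hM using hloc
  obtain ⟨s, hs⟩ := (isCompact_univ (X := WithConstructibleTopology (PrimeSpectrum S))).elim_finite_subcover
    (fun q => WithTopology.ofTopology (t := constructibleTopology (PrimeSpectrum S)) ⁻¹' U q)
    (fun q => by
      rw [WithConstructibleTopology.isOpen_iff]
      convert hU q using 1
      ext; simp)
    (fun x _ => Set.mem_iUnion.2 ⟨_, hmem _⟩)
  refine ⟨fun i => t i.succ - t 0 ^ ((s.sup M) ^ ((i : ℕ) + 1)), fun q => ?_⟩
  obtain ⟨q₀, hq₀, hq⟩ := Set.mem_iUnion₂.1 (hs (Set.mem_univ (WithTopology.toTopology _ q)))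
  exact hM q₀ _ (Finset.le_sup hq₀) q (by simpa using hq)

theorem exists_quasiFinite_mvPolynomial (d : ℕ) (hfd : ∀ q : PrimeSpectrum S, fd R q.asIdeal ≤ d) :
    ∃ φ : MvPolynomial (Fin d) R →ₐ[R] S, φ.toRingHom.QuasiFinite := by
  obtain ⟨m, π, hπ⟩ := Algebra.FiniteType.iff_quotient_mvPolynomial''.1 ‹Algebra.FiniteType R S›
  have hstart : ∃ t : Fin (m + d) → S, ∀ q, fdt (R := R) t q = 0 := by
    let t : Fin (m + d) → S := Fin.append (fun i => π (MvPolynomial.X i)) 0
    refine ⟨t, fun q => ?_⟩
    letI := (MvPolynomial.aeval (R := R) t).toRingHom.toAlgebra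
    haveI := tower_aevalMv (R := R) t
    haveI : Algebra.FiniteType (MvPolynomial (Fin (m + d)) R) S := Algebra.FiniteType.of_restrictScalars_finiteType R _ _
    have hsurj : Function.Surjective (MvPolynomial.aeval (R := R) t) := fun x => by
      obtain ⟨p, rfl⟩ := hπ x
      refine ⟨MvPolynomial.rename (Fin.castAdd d) p, ?_⟩
      rw [MvPolynomial.aeval_rename, MvPolynomial.aeval_unique π]
      congr 2
      funext i
      simp [t]
    refine Nat.le_zero.1 (fd_le_of_surjective (A := MvPolynomial (Fin (m + d)) R) (m := 0)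
      (MvPolynomial.aeval Fin.elim0) (fun x => ?_) q.asIdeal)
    obtain ⟨p, rfl⟩ := hsurj x
    exact ⟨MvPolynomial.C p, MvPolynomial.aeval_C _ _⟩
  have hdown : ∀ j, j ≤ m → ∃ t : Fin (m - j + d) → S, ∀ q, fdt (R := R) t q = 0 := by
    intro j
    induction j with
    | zero => exact fun _ => hstart
    | succ j ih =>
      intro hj
      obtain ⟨t, ht⟩ := ih (by omega)
      have he : m - j + d = m - (j + 1) + d + 1 := by omega
      revert t ht
      rw [he]
      intro t ht
      exact exists_fdt_pred t (fun q => (hfd q).trans (Nat.le_add_left d _)) ht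
  obtain ⟨t, ht⟩ := hdown m le_rfl
  revert t ht
  rw [Nat.sub_self, Nat.zero_add]
  intro t ht
  refine ⟨MvPolynomial.aeval t, ?_⟩
  letI := (MvPolynomial.aeval (R := R) t).toRingHom.toAlgebra
  haveI := tower_aevalMv (R := R) t
  haveI : Algebra.FiniteType (MvPolynomial (Fin d) R) S := Algebra.FiniteType.of_restrictScalars_finiteType R _ _
  show Algebra.QuasiFinite (MvPolynomial (Fin d) R) S
  refine ⟨fun P _ => ?_⟩
  have hP : ringKrullDim (P.Fiber S) ≤ ((0 : ℕ) : WithBot ℕ∞) :=
    dim_fiber_le_of_fd_le (A := MvPolynomial (Fin d) R) (B := S) ⟨P, inferInstance⟩ 0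
      fun q hq _ => (ht ⟨q, hq⟩).le
  rw [Module.finite_iff_isArtinianRing, isArtinianRing_iff_isNoetherianRing_krullDimLE_zero]
  exact ⟨Algebra.FiniteType.isNoetherianRing P.ResidueField _,
    Ring.krullDimLE_iff.2 hP⟩

theorem exists_quasiFinite_of_iSup_eq (d : ℕ)
    (hd : ⨆ p : PrimeSpectrum R, ringKrullDim (p.asIdeal.Fiber S) = (d : WithBot ℕ∞)) :
    ∃ φ : MvPolynomial (Fin d) R →ₐ[R] S, φ.toRingHom.QuasiFinite :=
  exists_quasiFinite_mvPolynomial d fun q => fd_le_of_dim_fiber_le d q.asIdeal
    (hd ▸ le_iSup (fun p : PrimeSpectrum R => ringKrullDim (p.asIdeal.Fiber S)) (PrimeSpectrum.comap (algebraMap R S) q))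

end Groth.Agent.FibShift
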