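import Groth.Agent.FibShift.Basic
import Groth.Agent.FibShift.Key
import Mathlib.Topology.Spectral.ConstructibleTopology

/-!
# `x ↦ aⁿ + b` for large `n` does not increase fibre dimensions
-/

set_option autoImplicit false
set_option linter.style.haveILetI false

open Topology

namespace Groth.Agent.FibShift

universe u

open DimFormula

variable {R S : Type u} [CommRing R] [CommRing S] [Algebra R S]

/-- Relative degree of `q` over `R[X]`, `X ↦ c`. -/
noncomputable def fdc (c : S) (q : PrimeSpectrum S) : ℕ :=
  letI := (Polynomial.aeval (R := R) c).toRingHom.toAlgebra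
  fd (Polynomial R) q.asIdeal

theorem tower_aeval (c : S) :
    letI := (Polynomial.aeval (R := R) c).toRingHom.toAlgebra
    IsScalarTower R (Polynomial R) S :=
  letI := (Polynomial.aeval (R := R) c).toRingHom.toAlgebra
  IsScalarTower.of_algebraMap_eq fun r => ((Polynomial.aeval (R := R) c).commutes r).symm

theorem fd_le_of_surjective {A : Type u} {T : Type u} [CommRing A] [CommRing T] [Algebra A T] [Algebra.FiniteType A T]
    {m : ℕ} (π : MvPolynomial (Fin m) A →ₐ[A] T) (hπ : Function.Surjective π) (P : Ideal T) [P.IsPrime] :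
    fd A P ≤ m := by
  rw [← fd_comap_of_surjective A π hπ P]
  exact fd_le_of_quasiFinite m _

theorem fd_polynomial_le (P : Ideal (Polynomial R)) [P.IsPrime] : fd R P ≤ 1 :=
  fd_le_of_surjective (MvPolynomial.aeval fun _ : Fin 1 => (Polynomial.X : Polynomial R))
    (by
      rw [← AlgHom.range_eq_top, eq_top_iff, ← Polynomial.adjoin_X]
      exact Algebra.adjoin_le (Set.singleton_subset_iff.2 ⟨MvPolynomial.X 0, by simp⟩)) P

variable [Algebra.FiniteType R S]

theorem fd_eq_add (c : S) (q : PrimeSpectrum S) :
    ∃ P : PrimeSpectrum (Polynomial R), P.asIdeal = q.asIdeal.comap (Polynomial.aeval (R := R) c).toRingHom ∧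
      fd R q.asIdeal = fd R P.asIdeal + fdc (R := R) c q := by
  letI := (Polynomial.aeval (R := R) c).toRingHom.toAlgebra
  haveI := tower_aeval (R := R) c
  haveI : Algebra.FiniteType (Polynomial R) S := Algebra.FiniteType.of_restrictScalars_finiteType R _ _
  exact ⟨⟨q.asIdeal.under (Polynomial R), inferInstance⟩, rfl, fd_tower R (Polynomial R) q.asIdeal⟩

theorem fdc_le (c : S) (q : PrimeSpectrum S) : fdc (R := R) c q ≤ fd R q.asIdeal := by
  obtain ⟨P, -, h⟩ := fd_eq_add (R := R) c q
  omega

theorem le_fdc_succ (c : S) (q : PrimeSpectrum S) : fd R q.asIdeal ≤ fdc (R := R) c q + 1 := by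
  obtain ⟨P, -, h⟩ := fd_eq_add (R := R) c q
  have := fd_polynomial_le P.asIdeal
  omega

section Field

omit [Algebra.FiniteType R S] in
/-- `κ(p) → κ(q)`. -/
@[instance_reducible]
noncomputable def resAlgebra (q : Ideal S) [q.IsPrime] : Algebra (q.under R).ResidueField q.ResidueField :=
  (Ideal.ResidueField.map (q.under R) q (algebraMap R S) rfl).toAlgebra

attribute [local instance] resAlgebra

omit [Algebra.FiniteType R S] in
theorem resTower (q : Ideal S) [q.IsPrime] :
    IsScalarTower R (q.under R).ResidueField q.ResidueField :=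
  IsScalarTower.of_algebraMap_eq fun r => by
    rw [IsScalarTower.algebraMap_apply R S q.ResidueField]
    exact (Ideal.ResidueField.map_algebraMap (q.under R) q (algebraMap R S) rfl r).symm

attribute [local instance] resTower

variable (q : PrimeSpectrum S) (c : S)

theorem fdc_lt_of_transcendental
    (hc : Transcendental (q.asIdeal.under R).ResidueField (algebraMap S q.asIdeal.ResidueField c)) :
    fdc (R := R) c q < fd R q.asIdeal := by
  obtain ⟨P, hP, h⟩ := fd_eq_add (R := R) c q
  suffices 1 ≤ fd R P.asIdeal by omega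
  let Φ : Polynomial R →+* q.asIdeal.ResidueField :=
    (algebraMap S q.asIdeal.ResidueField).comp (Polynomial.aeval (R := R) c).toRingHom
  have hker : RingHom.ker Φ = P.asIdeal := by
    rw [hP, ← RingHom.comap_ker, Ideal.ker_algebraMap_residueField]
  have hi := (FibDim.indepMod_iff_algebraicIndependent (q.asIdeal.under R) Φ
    (fun a => by
      show algebraMap S q.asIdeal.ResidueField (Polynomial.aeval c (algebraMap R (Polynomial R) a)) = _
      rw [AlgHom.commutes, ← IsScalarTower.algebraMap_apply, ← IsScalarTower.algebraMap_apply])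
    (fun _ : Fin 1 => (Polynomial.X : Polynomial R))).2 (algebraicIndependent_unique_type_iff.2 (by
      show Transcendental _ (algebraMap S q.asIdeal.ResidueField (Polynomial.aeval c Polynomial.X))
      rwa [Polynomial.aeval_X]))
  refine (le_fd_iff R P.asIdeal 1).2 ⟨fun _ => Polynomial.X, ?_⟩
  rwa [hker] at hi

theorem fdc_eq_of_algebraic
    (hc : IsAlgebraic (q.asIdeal.under R).ResidueField (algebraMap S q.asIdeal.ResidueField c)) :
    fdc (R := R) c q = fd R q.asIdeal := by
  obtain ⟨P, hP, h⟩ := fd_eq_add (R := R) c q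
  suffices fd R P.asIdeal = 0 by omega
  by_contra hne
  obtain ⟨t, ht⟩ := (le_fd_iff R P.asIdeal 1).1 (Nat.one_le_iff_ne_zero.2 hne)
  let Φ : Polynomial R →+* q.asIdeal.ResidueField :=
    (algebraMap S q.asIdeal.ResidueField).comp (Polynomial.aeval (R := R) c).toRingHom
  have hker : RingHom.ker Φ = P.asIdeal := by
    rw [hP, ← RingHom.comap_ker, Ideal.ker_algebraMap_residueField]
  rw [← hker] at ht
  have hi := (FibDim.indepMod_iff_algebraicIndependent (q.asIdeal.under R) Φ
    (fun a => by
      show algebraMap S q.asIdeal.ResidueField (Polynomial.aeval c (algebraMap R (Polynomial R) a)) = _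
      rw [AlgHom.commutes, ← IsScalarTower.algebraMap_apply, ← IsScalarTower.algebraMap_apply])
    t).1 ht
  refine (algebraicIndependent_unique_type_iff.1 hi) ?_
  refine IsIntegral.isAlgebraic ?_
  show IsIntegral _ (algebraMap S q.asIdeal.ResidueField (Polynomial.aeval c (t default)))
  rw [← Polynomial.aeval_algebraMap_apply, ← Polynomial.aeval_map_algebraMap (q.asIdeal.under R).ResidueField]
  exact Algebra.adjoin_le (S := integralClosure _ _) (Set.singleton_subset_iff.2 hc.isIntegral)
    (Polynomial.aeval_mem_adjoin_singleton _ _)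

end Field

attribute [local instance] resAlgebra resTower

variable (a b : S)

/-- A uniform bound for `n` near a point where `a` and `b` are dependent. -/
theorem good_near_of_relation (d : ℕ) (ha : ∀ q, fdc (R := R) a q ≤ d)
    (G : MvPolynomial (Fin 2) R) (s : Fin 2 →₀ ℕ) (q : PrimeSpectrum S)
    (hGq : MvPolynomial.aeval ![a, b] G ∈ q.asIdeal) (hs : algebraMap R S (G.coeff s) ∉ q.asIdeal)
    {n : ℕ} (hn : G.totalDegree < n) : fdc (R := R) (a ^ n + b) q ≤ d := by
  set α := algebraMap S q.asIdeal.ResidueField a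
  set β := algebraMap S q.asIdeal.ResidueField b
  by_cases hα : IsAlgebraic (q.asIdeal.under R).ResidueField α
  · exact ((fdc_le (R := R) _ q).trans (fdc_eq_of_algebraic q a hα).ge).trans (ha q)
  let G' := MvPolynomial.map (algebraMap R (q.asIdeal.under R).ResidueField) G
  have hG' : G' ≠ 0 := fun e => by
    have h1 := congrArg (MvPolynomial.coeff s) e
    rw [MvPolynomial.coeff_map, MvPolynomial.coeff_zero, Ideal.algebraMap_residueField_eq_zero] at h1
    exact hs h1
  have h0 : MvPolynomial.aeval ![α, β] G' = 0 := by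
    rw [MvPolynomial.aeval_map_algebraMap]
    have h1 := MvPolynomial.comp_aeval_apply (f := ![a, b]) (IsScalarTower.toAlgHom R S q.asIdeal.ResidueField) G
    rw [show (fun i => IsScalarTower.toAlgHom R S q.asIdeal.ResidueField (![a, b] i)) = ![α, β] by
      funext i; fin_cases i <;> rfl] at h1
    rw [← h1]
    exact Ideal.algebraMap_residueField_eq_zero.2 hGq
  have hdeg : G'.totalDegree < n :=
    lt_of_le_of_lt (Finset.sup_mono (MvPolynomial.support_map_subset _ _)) hn
  have hγ := transcendental_shift α β hα G' hG' h0 hdeg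
  have h1 := fdc_lt_of_transcendental (R := R) q (a ^ n + b) (by rwa [map_add, map_pow])
  have h2 := le_fdc_succ (R := R) a q
  have h3 := ha q
  omega

omit [Algebra.FiniteType R S] in
theorem tower_aeval₂ (n : ℕ) :
    letI := (MvPolynomial.aeval (R := R) ![a, b]).toRingHom.toAlgebra
    letI := (Polynomial.aeval (R := R) ((MvPolynomial.X 0 : MvPolynomial (Fin 2) R) ^ n +
      MvPolynomial.X 1)).toRingHom.toAlgebra
    letI := (Polynomial.aeval (R := R) (a ^ n + b)).toRingHom.toAlgebra
    IsScalarTower (Polynomial R) (MvPolynomial (Fin 2) R) S := by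
  letI := (MvPolynomial.aeval (R := R) ![a, b]).toRingHom.toAlgebra
  letI := (Polynomial.aeval (R := R) ((MvPolynomial.X 0 : MvPolynomial (Fin 2) R) ^ n +
      MvPolynomial.X 1)).toRingHom.toAlgebra
  letI := (Polynomial.aeval (R := R) (a ^ n + b)).toRingHom.toAlgebra
  refine IsScalarTower.of_algebraMap_eq fun f => ?_
  show Polynomial.aeval (a ^ n + b) f = MvPolynomial.aeval ![a, b] (Polynomial.aeval _ f)
  rw [← Polynomial.aeval_algHom_apply]
  simp

/-- Every point has a constructible neighbourhood with a uniform bound for `n`. -/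
theorem exists_good_nhd (d : ℕ) (ha : ∀ q, fdc (R := R) a q ≤ d) (q₀ : PrimeSpectrum S) :
    ∃ (U : Set (PrimeSpectrum S)) (N : ℕ), IsOpen[constructibleTopology (PrimeSpectrum S)] U ∧ q₀ ∈ U ∧
      ∀ n ≥ N, ∀ q ∈ U, fdc (R := R) (a ^ n + b) q ≤ d := by
  classical
  letI := (MvPolynomial.aeval (R := R) ![a, b]).toRingHom.toAlgebra
  haveI : IsScalarTower R (MvPolynomial (Fin 2) R) S :=
    IsScalarTower.of_algebraMap_eq fun r => ((MvPolynomial.aeval (R := R) ![a, b]).commutes r).symm
  haveI : Algebra.FiniteType (MvPolynomial (Fin 2) R) S := Algebra.FiniteType.of_restrictScalars_finiteType R _ _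
  let P₂ := PrimeSpectrum.comap (algebraMap (MvPolynomial (Fin 2) R) S) q₀
  by_cases h2 : 2 ≤ fd R P₂.asIdeal
  · have hle : ∀ q : PrimeSpectrum S, fd R q.asIdeal ≤ d + 1 := fun q => by
      have := le_fdc_succ (R := R) a q
      have := ha q
      omega
    have hd1 : 1 ≤ d := by
      have h1 := fd_tower R (MvPolynomial (Fin 2) R) q₀.asIdeal
      have h3 := hle q₀
      have h4 : fd R (q₀.asIdeal.under (MvPolynomial (Fin 2) R)) = fd R P₂.asIdeal := rfl
      omega
    have hdim : ringKrullDim (P₂.asIdeal.Fiber S) ≤ (d - 1 : ℕ) := dim_fiber_le_of_fd_le P₂ _ fun Q hQ hQu => by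
      have h1 := fd_tower R (MvPolynomial (Fin 2) R) Q
      have h3 : fd R Q ≤ d + 1 := hle ⟨Q, hQ⟩
      have h4 : fd R (Q.under (MvPolynomial (Fin 2) R)) = fd R P₂.asIdeal := by simp only [hQu]
      omega
    obtain ⟨m, hm, t, g, -, -, hg, hqf⟩ := FibDim.exists_quasiFinite q₀ (d - 1) hdim
    refine ⟨PrimeSpectrum.basicOpen g, 0,
      (PrimeSpectrum.isCompact_basicOpen g).isOpen_constructibleTopology_of_isOpen (PrimeSpectrum.basicOpen g).isOpen,
      hg, fun n _ q hq => ?_⟩
    let T := MvPolynomial (Fin 2) R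
    -- the degree over `R[x, y]`
    have hT : fd T q.asIdeal ≤ m := by
      letI := (MvPolynomial.aeval (R := T) t).toRingHom.toAlgebra
      haveI : IsScalarTower T (MvPolynomial (Fin m) T) S :=
        IsScalarTower.of_algebraMap_eq fun r => ((MvPolynomial.aeval (R := T) t).commutes r).symm
      haveI : IsScalarTower T (MvPolynomial (Fin m) T) (Localization.Away g) :=
        IsScalarTower.to₁₂₄ T (MvPolynomial (Fin m) T) S _
      haveI := hqf
      haveI : Algebra.FiniteType T (Localization.Away g) :=
        .trans (S := S) inferInstance (IsLocalization.finiteType_of_monoid_fg (.powers g) _)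
      have hdisj : Disjoint (Submonoid.powers g : Set S) (q.asIdeal : Set S) :=
        Set.disjoint_left.2 fun x hx hx' => by
          obtain ⟨k, rfl⟩ := hx
          exact hq (q.isPrime.mem_of_pow_mem k hx')
      let Q' := q.asIdeal.map (algebraMap S (Localization.Away g))
      haveI : Q'.IsPrime := IsLocalization.isPrime_of_isPrime_disjoint (.powers g) _ _ q.isPrime hdisj
      have hQ' : Q'.comap (IsScalarTower.toAlgHom T S (Localization.Away g)).toRingHom = q.asIdeal :=
        IsLocalization.under_map_of_isPrime_disjoint (.powers g) _ q.isPrime hdisj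
      have h1 := fd_le_fd_of_comap (A := T) (IsScalarTower.toAlgHom T S (Localization.Away g)) Q'
      simp only [hQ'] at h1
      exact h1.trans (fd_le_of_quasiFinite m Q')
    -- the degree over `R[X]`
    letI := (Polynomial.aeval (R := R) ((MvPolynomial.X 0 : T) ^ n + MvPolynomial.X 1)).toRingHom.toAlgebra
    letI := (Polynomial.aeval (R := R) (a ^ n + b)).toRingHom.toAlgebra
    haveI : IsScalarTower R (Polynomial R) T := tower_aeval _
    haveI : IsScalarTower R (Polynomial R) S := tower_aeval _
    haveI : IsScalarTower (Polynomial R) T S := tower_aeval₂ a b n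
    haveI : Algebra.FiniteType (Polynomial R) T := Algebra.FiniteType.of_restrictScalars_finiteType R _ _
    haveI : Algebra.FiniteType (Polynomial R) S := Algebra.FiniteType.of_restrictScalars_finiteType R _ _
    show fd (Polynomial R) q.asIdeal ≤ d
    rw [fd_tower (Polynomial R) T q.asIdeal]
    have h1 : fd (Polynomial R) (q.asIdeal.under T) ≤ 1 := by
      refine fd_le_of_surjective (MvPolynomial.aeval fun _ : Fin 1 => (MvPolynomial.X 0 : T)) ?_ _
      intro x
      induction x using MvPolynomial.induction_on with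
      | C r => exact ⟨MvPolynomial.C (Polynomial.C r), by
          rw [MvPolynomial.aeval_C]; exact (Polynomial.aeval_C _ r).trans rfl⟩
      | add p p' hp hp' =>
        obtain ⟨u, rfl⟩ := hp
        obtain ⟨v, rfl⟩ := hp'
        exact ⟨u + v, map_add _ _ _⟩
      | mul_X p i hp =>
        obtain ⟨u, rfl⟩ := hp
        have hi : ∃ v : MvPolynomial (Fin 1) (Polynomial R),
            MvPolynomial.aeval (fun _ : Fin 1 => (MvPolynomial.X 0 : T)) v = MvPolynomial.X i := by
          fin_cases i
          · exact ⟨MvPolynomial.X 0, MvPolynomial.aeval_X _ _⟩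
          · refine ⟨MvPolynomial.C Polynomial.X - MvPolynomial.X 0 ^ n, ?_⟩
            rw [map_sub, map_pow, MvPolynomial.aeval_C, MvPolynomial.aeval_X]
            show Polynomial.aeval _ Polynomial.X - _ = _
            rw [Polynomial.aeval_X, add_sub_cancel_left]
            rfl
        obtain ⟨v, hv⟩ := hi
        exact ⟨u * v, by rw [map_mul, hv]⟩
    omega
  · obtain ⟨G, hG, hG'⟩ : ∃ G : MvPolynomial (Fin 2) R, G ∈ P₂.asIdeal ∧ G ∉ (P₂.asIdeal.under R).map MvPolynomial.C := by
      by_contra hh
      push Not at hh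
      refine h2 ((le_fd_iff R P₂.asIdeal 2).2 ⟨MvPolynomial.X, fun G hG => hh G ?_⟩)
      rwa [MvPolynomial.aeval_X_left_apply] at hG
    rw [MvPolynomial.mem_map_C_iff, not_forall] at hG'
    obtain ⟨s, hs⟩ := hG'
    have hs' : algebraMap R S (G.coeff s) ∉ q₀.asIdeal := fun e => hs (by
      show algebraMap (MvPolynomial (Fin 2) R) S (algebraMap R _ (G.coeff s)) ∈ q₀.asIdeal
      rwa [← IsScalarTower.algebraMap_apply])
    refine ⟨PrimeSpectrum.zeroLocus {MvPolynomial.aeval ![a, b] G} ∩
      PrimeSpectrum.basicOpen (algebraMap R S (G.coeff s)), G.totalDegree + 1, ?_,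
      ⟨Set.singleton_subset_iff.2 hG, hs'⟩,
      fun n hn q hq => good_near_of_relation a b d ha G s q (Set.singleton_subset_iff.1 hq.1) hq.2 (by omega)⟩
    refine @IsOpen.inter _ (constructibleTopology _) _ _ (IsCompact.isOpen_constructibleTopology_of_isClosed ?_
      (PrimeSpectrum.isClosed_zeroLocus _))
      ((PrimeSpectrum.isCompact_basicOpen _).isOpen_constructibleTopology_of_isOpen (PrimeSpectrum.basicOpen _).isOpen)
    rw [← PrimeSpectrum.basicOpen_eq_zeroLocus_compl]
    exact PrimeSpectrum.isCompact_basicOpen _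

theorem exists_forall_fdc_shift_le (d : ℕ) (ha : ∀ q, fdc (R := R) a q ≤ d) :
    ∃ n₀, ∀ n ≥ n₀, ∀ q, fdc (R := R) (a ^ n + b) q ≤ d := by
  choose U N hU hmem hN using exists_good_nhd a b d ha
  obtain ⟨t, ht⟩ := (isCompact_univ (X := WithConstructibleTopology (PrimeSpectrum S))).elim_finite_subcover
    (fun q => WithTopology.ofTopology (t := constructibleTopology (PrimeSpectrum S)) ⁻¹' U q)
    (fun q => by
      rw [WithConstructibleTopology.isOpen_iff]
      convert hU q using 1
      ext; simp)
    (fun x _ => Set.mem_iUnion.2 ⟨_, hmem _⟩)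
  refine ⟨t.sup N, fun n hn q => ?_⟩
  obtain ⟨q₀, hq₀, hq⟩ := Set.mem_iUnion₂.1 (ht (Set.mem_univ (WithTopology.toTopology _ q)))
  exact hN q₀ n ((Finset.le_sup hq₀).trans hn) q (by simpa using hq)

theorem exists_forall_dim_fiber_shift_le (d : ℕ)
    (ha : ∀ P : PrimeSpectrum (Polynomial R), letI := (Polynomial.aeval (R := R) a).toRingHom.toAlgebra
      ringKrullDim (P.asIdeal.Fiber S) ≤ d) :
    ∃ n₀ : ℕ, ∀ n ≥ n₀, ∀ P : PrimeSpectrum (Polynomial R),
      letI := (Polynomial.aeval (R := R) (a ^ n + b)).toRingHom.toAlgebra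
      ringKrullDim (P.asIdeal.Fiber S) ≤ d := by
  have ha' : ∀ q, fdc (R := R) a q ≤ d := fun q => by
    letI := (Polynomial.aeval (R := R) a).toRingHom.toAlgebra
    haveI := tower_aeval (R := R) a
    haveI : Algebra.FiniteType (Polynomial R) S := Algebra.FiniteType.of_restrictScalars_finiteType R _ _
    exact fd_le_of_dim_fiber_le d q.asIdeal (ha (PrimeSpectrum.comap (algebraMap (Polynomial R) S) q))
  obtain ⟨n₀, h⟩ := exists_forall_fdc_shift_le a b d ha'
  refine ⟨n₀, fun n hn P => ?_⟩
  letI := (Polynomial.aeval (R := R) (a ^ n + b)).toRingHom.toAlgebra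
  haveI := tower_aeval (R := R) (a ^ n + b)
  haveI : Algebra.FiniteType (Polynomial R) S := Algebra.FiniteType.of_restrictScalars_finiteType R _ _
  exact dim_fiber_le_of_fd_le P d fun q hq _ => h n hn ⟨q, hq⟩

end Groth.Agent.FibShift
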